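import Groth.Agent.EtCore.K301.JoinDefs
import Groth.Agent.Pi1C.StrictHensPoint
import Mathlib.RingTheory.FinitePresentation
import Mathlib.RingTheory.Ideal.Quotient.Operations

/-!
# Sections of étale algebras over rings with strictly henselian components

* `exists_factor`: ring homomorphisms from a finitely presented algebra to a filtered colimit factor;
* `exists_section`: if `C ⧸ (idempotents in s)` is strictly henselian for every prime `s` of `C`, every étale
  `E`-algebra `D` with surjective spectrum maps to the `E`-algebra `C`.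
-/

set_option autoImplicit false
universe u v

namespace K357.JoinSec

open K301.JoinDefs

/-- Homomorphisms from a finitely presented algebra to a filtered colimit factor. -/
theorem exists_factor {E D C : Type u} [CommRing E] [CommRing D] [CommRing C] [Algebra E D]
    [Algebra.FinitePresentation E D] (σ : D →+* C) {ι : Type v} [Preorder ι] [IsDirectedOrder ι] [Nonempty ι]
    (C' : ι → Type u) [∀ i, CommRing (C' i)]
    (g : ∀ i, E →+* C' i) (c : ∀ i, C' i →+* C) (t : ∀ i j, i ≤ j → C' i →+* C' j)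
    (hg : ∀ i j h x, t i j h (g i x) = g j x) (hc : ∀ i j h x, c j (t i j h x) = c i x)
    (ht : ∀ i j k (h : i ≤ j) (h' : j ≤ k) x, t j k h' (t i j h x) = t i k (h.trans h') x)
    (hσ : ∀ i x, σ (algebraMap E D x) = c i (g i x))
    (hsurj : ∀ x, ∃ i, ∃ y : C' i, c i y = x) (hinj : ∀ i x, c i x = 0 → ∃ j, ∃ h : i ≤ j, t i j h x = 0) :
    ∃ i, ∃ σ' : D →+* C' i, σ'.comp (algebraMap E D) = g i ∧ (c i).comp σ' = σ := by
  classical
  obtain ⟨n, α, hα, ⟨G, hG⟩⟩ := Algebra.FinitePresentation.out (R := E) (A := D)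
  choose i y hy using fun k : Fin n => hsurj (σ (α (MvPolynomial.X k)))
  obtain ⟨i₀, hi₀⟩ := Finite.exists_le i
  let e : MvPolynomial (Fin n) E →+* C' i₀ :=
    MvPolynomial.eval₂Hom (g i₀) (fun k => t (i k) i₀ (hi₀ k) (y k))
  have he : (c i₀).comp e = σ.comp (α : MvPolynomial (Fin n) E →+* D) := by
    apply MvPolynomial.ringHom_ext
    · intro r
      simp only [RingHom.comp_apply, e, MvPolynomial.coe_eval₂Hom, MvPolynomial.eval₂_C]
      rw [← hσ, ← α.commutes r]
      rfl
    · intro k
      simp only [RingHom.comp_apply, e, MvPolynomial.coe_eval₂Hom, MvPolynomial.eval₂_X]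
      rw [hc, hy]
      rfl
  have hzero : ∀ p : G, ∃ j, ∃ h : i₀ ≤ j, t i₀ j h (e p) = 0 := by
    intro p
    apply hinj
    have h1 := DFunLike.congr_fun he (p : MvPolynomial (Fin n) E)
    have h2 : (p : MvPolynomial (Fin n) E) ∈ RingHom.ker α.toRingHom := by
      rw [← hG]
      exact Ideal.subset_span p.2
    have h3 : α (p : MvPolynomial (Fin n) E) = 0 := h2
    change c i₀ (e p) = σ (α p) at h1
    rw [h1, h3, map_zero]
  choose j hj hj0 using hzero
  obtain ⟨j₁, hj₁⟩ := Finite.exists_le j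
  obtain ⟨j₀, h0, h1⟩ := exists_ge_ge i₀ j₁
  let e' : MvPolynomial (Fin n) E →+* C' j₀ := (t i₀ j₀ h0).comp e
  have hker : RingHom.ker (α : MvPolynomial (Fin n) E →+* D) ≤ RingHom.ker e' := by
    have : RingHom.ker α.toRingHom ≤ RingHom.ker e' := by
      rw [← hG, Ideal.span_le]
      intro p hp
      change t i₀ j₀ h0 (e p) = 0
      rw [← ht i₀ (j ⟨p, hp⟩) j₀ (hj ⟨p, hp⟩) ((hj₁ ⟨p, hp⟩).trans h1), hj0 ⟨p, hp⟩, map_zero]
    exact this
  let σ' : D →+* C' j₀ := RingHom.liftOfSurjective (α : MvPolynomial (Fin n) E →+* D) hα ⟨e', hker⟩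
  have hσ' : ∀ p, σ' (α p) = e' p := fun p => RingHom.liftOfRightInverse_comp_apply _ _ _ _ _
  refine ⟨j₀, σ', ?_, ?_⟩
  · ext r
    have h2 := hσ' (MvPolynomial.C r)
    have h3 : α (MvPolynomial.C r) = algebraMap E D r := α.commutes r
    rw [h3] at h2
    rw [RingHom.comp_apply, h2]
    simp only [e', e, RingHom.comp_apply, MvPolynomial.coe_eval₂Hom, MvPolynomial.eval₂_C]
    exact hg _ _ _ _
  · ext d
    obtain ⟨p, rfl⟩ := hα d
    rw [RingHom.comp_apply, hσ']
    change c j₀ (t i₀ j₀ h0 (e p)) = _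
    rw [hc]
    exact DFunLike.congr_fun he p

section Sec

variable {E D C : Type u} [CommRing E] [CommRing D] [CommRing C] [Algebra E D] [Algebra E C]

variable (E D) in
/-- There is an `E`-homomorphism from `D` to `C ⧸ I`. -/
def Sec (I : Ideal C) : Prop :=
  ∃ σ : D →+* C ⧸ I, ∀ x, σ (algebraMap E D x) = Ideal.Quotient.mk I (algebraMap E C x)

lemma Sec.mono {I J : Ideal C} (h : I ≤ J) (hI : Sec E D I) : Sec E D J := by
  obtain ⟨σ, hσ⟩ := hI
  refine ⟨(Ideal.Quotient.factor h).comp σ, fun x => ?_⟩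
  rw [RingHom.comp_apply, hσ, Ideal.Quotient.factor_mk]

lemma Sec.inf {I J : Ideal C} (h : IsCoprime I J) (hI : Sec E D I) (hJ : Sec E D J) : Sec E D (I ⊓ J) := by
  obtain ⟨σ, hσ⟩ := hI
  obtain ⟨τ, hτ⟩ := hJ
  let e := Ideal.quotientInfEquivQuotientProd I J h
  refine ⟨(e.symm : _ →+* _).comp (σ.prod τ), fun x => ?_⟩
  rw [RingHom.comp_apply]
  change e.symm (σ (algebraMap E D x), τ (algebraMap E D x)) = _
  rw [hσ, hτ, RingEquiv.symm_apply_eq]
  rfl

lemma Sec.bot (h : Sec E D (⊥ : Ideal C)) : Nonempty (D →ₐ[E] C) := by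
  obtain ⟨σ, hσ⟩ := h
  let e : (C ⧸ (⊥ : Ideal C)) ≃+* C := RingEquiv.quotientBot C
  refine ⟨{ toRingHom := (e : _ →+* _).comp σ, commutes' := fun x => ?_ }⟩
  change e (σ (algebraMap E D x)) = _
  rw [hσ]
  rfl

lemma Sec.top : Sec E D (⊤ : Ideal C) := by
  have : Subsingleton (C ⧸ (⊤ : Ideal C)) := Ideal.Quotient.subsingleton_iff.2 rfl
  exact ⟨{ toFun := fun _ => 0, map_one' := Subsingleton.elim _ _, map_mul' := fun _ _ => Subsingleton.elim _ _,
           map_zero' := Subsingleton.elim _ _, map_add' := fun _ _ => Subsingleton.elim _ _ },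
    fun _ => Subsingleton.elim _ _⟩

lemma Sec.sup {e f : C} (he : IsIdempotentElem e) (hf : IsIdempotentElem f) (hse : Sec E D (Ideal.span {1 - e}))
    (hsf : Sec E D (Ideal.span {1 - f})) : Sec E D (Ideal.span {(1 - e) * (1 - f)}) := by
  have hsf' : Sec E D (Ideal.span {1 - f * (1 - e)}) := by
    refine hsf.mono ?_
    rw [Ideal.span_le, Set.singleton_subset_iff]
    refine Ideal.mem_span_singleton.2 ⟨1 - f, ?_⟩
    linear_combination (-(1 - e)) * hf.eq
  have hcop : IsCoprime (Ideal.span {1 - e}) (Ideal.span {1 - f * (1 - e)}) := by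
    rw [Ideal.isCoprime_span_singleton_iff]
    refine ⟨1, e, ?_⟩
    linear_combination f * he.eq
  have := hse.inf hcop hsf'
  rw [← Ideal.mul_eq_inf_of_isCoprime hcop, Ideal.span_singleton_mul_span_singleton] at this
  convert this using 2
  congr 1
  linear_combination f * he.eq

/-- **Sections exist if the components are strictly henselian.** -/
theorem exists_section [Algebra.Etale E D]
    (hsurj : Function.Surjective (PrimeSpectrum.comap (algebraMap E D)))
    (H : ∀ s : Ideal C, s.IsPrime → SH (C ⧸ Ideal.span {e : C | IsIdempotentElem e ∧ e ∈ s})) :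
    Nonempty (D →ₐ[E] C) := by
  classical
  let N : Ideal C := Ideal.span {e : C | IsIdempotentElem e ∧ Sec E D (Ideal.span {1 - e})}
  by_cases hN : N = ⊤
  · have key : ∀ S : Finset C, (∀ e ∈ S, IsIdempotentElem e ∧ Sec E D (Ideal.span {1 - e})) →
        ∃ f : C, IsIdempotentElem f ∧ Sec E D (Ideal.span {1 - f}) ∧ ∀ e ∈ S, f * e = e := by
      intro S
      induction S using Finset.induction_on with
      | empty =>
        intro _
        refine ⟨0, IsIdempotentElem.zero, ?_, by simp⟩
        rw [sub_zero, Ideal.span_singleton_one]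
        exact Sec.top
      | insert a S ha ih =>
        intro h
        obtain ⟨f, hf, hsf, hfS⟩ := ih (fun e he => h e (Finset.mem_insert_of_mem he))
        obtain ⟨ha1, ha2⟩ := h a (Finset.mem_insert_self _ _)
        have h1 : 1 - (1 - (1 - f) * (1 - a)) = (1 - f) * (1 - a) := by ring
        refine ⟨1 - (1 - f) * (1 - a), ?_, ?_, ?_⟩
        · exact (hf.one_sub.mul ha1.one_sub).one_sub
        · rw [h1]
          exact hsf.sup hf ha1 ha2
        · intro e he
          rcases Finset.mem_insert.1 he with rfl | he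
          · linear_combination (1 - f) * ha1.eq
          · linear_combination (1 - a) * hfS e he
    have h1 : (1 : C) ∈ N := hN ▸ Submodule.mem_top
    obtain ⟨S, hS, hS1⟩ := Submodule.mem_span_finite_of_mem_span h1
    obtain ⟨f, hf, hsf, hfS⟩ := key S hS
    have h2 : ∀ x ∈ Ideal.span (S : Set C), f * x = x := by
      intro x hx
      refine Submodule.span_induction (fun y hy => hfS y hy) (by simp) (fun y z _ _ hy hz => ?_)
        (fun r y _ hy => ?_) hx
      · rw [mul_add, hy, hz]
      · rw [smul_eq_mul, mul_left_comm, hy]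
    have h3 : f = 1 := by
      have := h2 1 hS1
      rwa [mul_one] at this
    rw [h3, sub_self, Ideal.span_singleton_zero] at hsf
    exact hsf.bot
  · exfalso
    obtain ⟨m, hm, hNm⟩ := Ideal.exists_le_maximal N hN
    obtain ⟨h1, h2⟩ := H m hm.isPrime
    let J : Ideal C := Ideal.span {e : C | IsIdempotentElem e ∧ e ∈ m}
    -- a section over the component
    obtain ⟨σ, -⟩ : ∃ σ : D →ₐ[E] C ⧸ J, True := by
      obtain ⟨⟨q, hq⟩, hq'⟩ := hsurj ⟨(IsLocalRing.maximalIdeal (C ⧸ J)).comap (algebraMap E (C ⧸ J)),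
        Ideal.IsPrime.comap _⟩
      obtain ⟨σ, -⟩ := Groth.Agent.Pi1C.StrictHensPoint.exists_algHom_of_comap_eq E D (C ⧸ J) q
        (congrArg PrimeSpectrum.asIdeal hq')
      exact ⟨σ, trivial⟩
    let ι := Finset {e : C // IsIdempotentElem e ∧ e ∈ m}
    let I : ι → Ideal C := fun S => Ideal.span (Subtype.val '' (S : Set {e : C // IsIdempotentElem e ∧ e ∈ m}))
    have hI : ∀ S T : ι, S ≤ T → I S ≤ I T := fun S T h =>
      Ideal.span_mono (Set.image_mono (Finset.coe_subset.2 h))
    have hIJ : ∀ S : ι, I S ≤ J := fun S => Ideal.span_mono (by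
      rintro _ ⟨e, -, rfl⟩
      exact e.2)
    obtain ⟨S, σ', hσ', -⟩ := exists_factor (E := E) (D := D) (C := C ⧸ J) (σ : D →+* C ⧸ J) (ι := ι)
      (fun S => C ⧸ I S) (fun S => (Ideal.Quotient.mk (I S)).comp (algebraMap E C))
      (fun S => Ideal.Quotient.factor (hIJ S)) (fun S T h => Ideal.Quotient.factor (hI S T h))
      (fun S T h x => rfl) (fun S T h x => by
        obtain ⟨x, rfl⟩ := Ideal.Quotient.mk_surjective x
        rfl)
      (fun S T U h h' x => by
        obtain ⟨x, rfl⟩ := Ideal.Quotient.mk_surjective x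
        rfl)
      (fun S x => by
        change σ (algebraMap E D x) = _
        rw [σ.commutes]
        rfl)
      (fun x => by
        obtain ⟨x, rfl⟩ := Ideal.Quotient.mk_surjective x
        exact ⟨∅, Ideal.Quotient.mk _ x, Ideal.Quotient.factor_mk (hIJ ∅) x⟩)
      (fun S x hx => by
        obtain ⟨x, rfl⟩ := Ideal.Quotient.mk_surjective x
        rw [Ideal.Quotient.factor_mk, Ideal.Quotient.eq_zero_iff_mem] at hx
        obtain ⟨T, hT, hT1⟩ := Submodule.mem_span_finite_of_mem_span hx
        let T' : ι := T.attach.image (fun e => ⟨e.1, hT e.2⟩)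
        refine ⟨S ⊔ T', le_sup_left, ?_⟩
        rw [Ideal.Quotient.factor_mk, Ideal.Quotient.eq_zero_iff_mem]
        refine hI T' (S ⊔ T') le_sup_right ?_
        have : (T : Set C) ⊆ (Subtype.val '' (T' : Set {e : C // IsIdempotentElem e ∧ e ∈ m})) := by
          intro e he
          exact ⟨⟨e, hT he⟩, Finset.mem_coe.2 (Finset.mem_image.2 ⟨⟨e, he⟩, Finset.mem_attach _ _, rfl⟩), rfl⟩
        exact Ideal.span_mono this hT1)
    have hsec : Sec E D (I S) := ⟨σ', fun x => DFunLike.congr_fun hσ' x⟩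
    -- a single idempotent
    have key : ∀ S : ι, ∃ e : C, IsIdempotentElem e ∧ e ∉ m ∧ I S ≤ Ideal.span {1 - e} := by
      intro S
      refine ⟨∏ e ∈ S, (1 - e.1), ?_, ?_, ?_⟩
      · refine Finset.prod_induction _ IsIdempotentElem (fun a b ha hb => ha.mul hb) IsIdempotentElem.one ?_
        exact fun e _ => e.2.1.one_sub
      · intro h
        obtain ⟨e, -, he⟩ := (hm.isPrime.prod_mem_iff).1 h
        exact hm.isPrime.ne_top ((Ideal.eq_top_iff_one _).2 (by
          have := m.add_mem he e.2.2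
          rwa [sub_add_cancel] at this))
      · refine Ideal.span_le.2 ?_
        rintro _ ⟨e, he, rfl⟩
        refine Ideal.mem_span_singleton.2 ⟨e.1, ?_⟩
        have h3 : (∏ e ∈ S, (1 - e.1)) * e.1 = 0 := by
          rw [← Finset.mul_prod_erase S _ (Finset.mem_coe.1 he), mul_assoc, mul_comm, mul_assoc, mul_sub, mul_one,
            e.2.1.eq, sub_self, mul_zero]
        rw [sub_mul, one_mul, h3, sub_zero]
    obtain ⟨e, he, hem, hle⟩ := key S
    exact hem (hNm (Ideal.subset_span ⟨he, hsec.mono hle⟩))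

end Sec

end K357.JoinSec
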