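import Groth.Agent.EtCore.K357.JoinBC
import Groth.Agent.EtCore.K357.JoinSec

/-!
# Étale coverings of a product of two pointed étale objects

`al2R_of_fam`: if `P` is a normal domain with a family of strict henselizations satisfying Artin's theorem on joins, then
`AL2R A` holds for every quotient `A` of `P`.
-/

set_option autoImplicit false
set_option linter.unusedSectionVars false
universe u v
open scoped TensorProduct

namespace K357.JoinMain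

open K301.JoinDefs K357.JoinT K357.JoinBC K357.JoinSec

variable {P Ω : Type u} [CommRing P] [IsDomain P] [IsIntegrallyClosed P] [Field Ω] [IsAlgClosed Ω]
    [Algebra P Ω] [FaithfulSMul P Ω] [Algebra.IsAlgebraic P Ω] (𝓡 : Fam P Ω)
    {A : Type u} [CommRing A] [Algebra P A] (hA : Function.Surjective (algebraMap P A))

/-- The étale subalgebras of `R` containing `B₀`. -/
def Idx (B₀ R : Subalgebra P Ω) : Type u :=
  {B : Subalgebra P Ω // Algebra.Etale P B ∧ B₀ ≤ B ∧ B ≤ R}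

instance (B₀ R : Subalgebra P Ω) : PartialOrder (Idx B₀ R) := inferInstanceAs (PartialOrder {_B : Subalgebra P Ω // _})

include hA in
/-- The point of a strict henselization. -/
theorem exists_point {E : Type u} [CommRing E] [Algebra A E] [Algebra.Etale A E] (p : Ideal E) [p.IsPrime] :
    ∃ R ∈ 𝓡.carrier, ∃ (_ : SH (A ⊗[P] R)) (_ : IsLocalRing (A ⊗[P] R)) (α : E →ₐ[A] A ⊗[P] R),
      (IsLocalRing.maximalIdeal (A ⊗[P] R)).comap α = p := by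
  obtain ⟨R, hR, hR1, hR2, hR3⟩ := 𝓡.exists_prime (p.comap ((algebraMap A E).comp (algebraMap P A)))
    (Ideal.IsPrime.comap _)
  have hnt : Nontrivial (A ⊗[P] R) := by
    by_contra hnt
    rw [not_nontrivial_iff_subsingleton] at hnt
    have h1 : (1 : R) ∈ _ := mem_map_of_one_tmul hA (s := (1 : R)) (Subsingleton.elim _ _)
    have h2 : (RingHom.ker (algebraMap P A)).map (algebraMap P R) ≤ IsLocalRing.maximalIdeal R := by
      rw [Ideal.map_le_iff_le_comap, hR3]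
      intro x hx
      rw [Ideal.mem_comap, RingHom.comp_apply, (RingHom.mem_ker).1 hx, map_zero]
      exact p.zero_mem
    exact (IsLocalRing.maximalIdeal.isMaximal R).ne_top ((Ideal.eq_top_iff_one _).2 (h2 h1))
  have hSH : SH (A ⊗[P] R) := SH_bc hA ⟨hR1, hR2⟩
  obtain ⟨hS1, hS2⟩ := id hSH
  refine ⟨R, hR, hSH, inferInstance, ?_⟩
  have hq : p.comap (algebraMap A E) =
      (IsLocalRing.maximalIdeal (A ⊗[P] R)).comap (algebraMap A (A ⊗[P] R)) := by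
    apply Ideal.comap_injective_of_surjective (algebraMap P A) hA
    rw [Ideal.comap_comap, Ideal.comap_comap, ← hR3]
    let π : R →+* A ⊗[P] R := (Algebra.TensorProduct.includeRight : R →ₐ[P] A ⊗[P] R).toRingHom
    have hπ : Function.Surjective π := exists_one_tmul hA
    have hl : IsLocalHom π := hπ.isLocalHom
    have h3 : (algebraMap A (A ⊗[P] R)).comp (algebraMap P A) = π.comp (algebraMap P R) := by
      ext x
      exact ((Algebra.TensorProduct.includeRight : R →ₐ[P] A ⊗[P] R).commutes x).symm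
    have h4 : (IsLocalRing.maximalIdeal (A ⊗[P] R)).comap π = IsLocalRing.maximalIdeal R :=
      ((IsLocalRing.local_hom_TFAE π).out 0 4).1 hl
    rw [h3, ← Ideal.comap_comap, h4]
  obtain ⟨α, hα⟩ := Groth.Agent.Pi1C.StrictHensPoint.exists_algHom_of_comap_eq A E (A ⊗[P] R) p hq
  exact ⟨α, hα⟩

/-- Homomorphisms out of `A ⊗ (S₁ ⊗ S₂)`. -/
theorem exists_β {P A S₁ S₂ X : Type u} [CommRing P] [CommRing A] [Algebra P A] [CommRing S₁] [CommRing S₂]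
    [Algebra P S₁] [Algebra P S₂] [CommRing X] [Algebra A X] (f₁ : (A ⊗[P] S₁) →ₐ[A] X)
    (f₂ : (A ⊗[P] S₂) →ₐ[A] X) :
    ∃ β : (A ⊗[P] (S₁ ⊗[P] S₂)) →ₐ[A] X,
      β.comp (bc A Algebra.TensorProduct.includeLeft) = f₁ ∧
      β.comp (bc A Algebra.TensorProduct.includeRight) = f₂ := by
  let _ : Algebra P X := ((algebraMap A X).comp (algebraMap P A)).toAlgebra
  have : IsScalarTower P A X := IsScalarTower.of_algebraMap_eq (fun _ => rfl)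
  refine ⟨Algebra.TensorProduct.lift (Algebra.ofId A X)
    (Algebra.TensorProduct.productMap ((f₁.restrictScalars P).comp Algebra.TensorProduct.includeRight)
      ((f₂.restrictScalars P).comp Algebra.TensorProduct.includeRight)) (fun _ _ => Commute.all _ _), ?_, ?_⟩
  · apply Algebra.TensorProduct.ext
    · exact Subsingleton.elim _ _
    · ext s
      simp only [bc, AlgHom.comp_apply, AlgHom.restrictScalars_apply, Algebra.TensorProduct.includeRight_apply,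
        Algebra.TensorProduct.map_tmul, map_one, Algebra.TensorProduct.includeLeft_apply,
        Algebra.TensorProduct.lift_tmul, Algebra.TensorProduct.productMap_apply_tmul, one_mul]
      rw [mul_one]
  · apply Algebra.TensorProduct.ext
    · exact Subsingleton.elim _ _
    · ext s
      simp only [bc, AlgHom.comp_apply, AlgHom.restrictScalars_apply, Algebra.TensorProduct.includeRight_apply,
        Algebra.TensorProduct.map_tmul, map_one,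
        Algebra.TensorProduct.lift_tmul, Algebra.TensorProduct.productMap_apply_tmul, one_mul]

/-- The `A`-homomorphism `E₁ ⊗ E₂ → A ⊗ (S₁ ⊗ S₂)` of two homomorphisms `E_i → A ⊗ S_i`. -/
noncomputable def γ {P A E₁ E₂ S₁ S₂ : Type u} [CommRing P] [CommRing A] [Algebra P A] [CommRing S₁] [CommRing S₂]
    [Algebra P S₁] [Algebra P S₂] [CommRing E₁] [CommRing E₂] [Algebra A E₁] [Algebra A E₂]
    (f₁ : E₁ →ₐ[A] (A ⊗[P] S₁)) (f₂ : E₂ →ₐ[A] (A ⊗[P] S₂)) :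
    (E₁ ⊗[A] E₂) →ₐ[A] (A ⊗[P] (S₁ ⊗[P] S₂)) :=
  Algebra.TensorProduct.productMap ((bc A Algebra.TensorProduct.includeLeft).comp f₁)
    ((bc A Algebra.TensorProduct.includeRight).comp f₂)

theorem bc_comp_γ {P A E₁ E₂ S₁ S₂ T₁ T₂ : Type u} [CommRing P] [CommRing A] [Algebra P A] [CommRing S₁] [CommRing S₂]
    [Algebra P S₁] [Algebra P S₂] [CommRing T₁] [CommRing T₂]
    [Algebra P T₁] [Algebra P T₂] [CommRing E₁] [CommRing E₂] [Algebra A E₁] [Algebra A E₂]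
    (f₁ : E₁ →ₐ[A] (A ⊗[P] S₁)) (f₂ : E₂ →ₐ[A] (A ⊗[P] S₂)) (g₁ : S₁ →ₐ[P] T₁) (g₂ : S₂ →ₐ[P] T₂) :
    (bc A (Algebra.TensorProduct.map g₁ g₂)).comp (γ f₁ f₂) = γ ((bc A g₁).comp f₁) ((bc A g₂).comp f₂) := by
  apply Algebra.TensorProduct.ext
  · ext x
    have h : ∀ y : A ⊗[P] S₁, bc A (Algebra.TensorProduct.map g₁ g₂) (bc A Algebra.TensorProduct.includeLeft y) =
        bc A Algebra.TensorProduct.includeLeft (bc A g₁ y) := by
      intro y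
      rw [bc_bc, bc_bc]
      congr 2
      ext s
      simp
    simpa [γ] using h (f₁ x)
  · ext x
    have h : ∀ y : A ⊗[P] S₂, bc A (Algebra.TensorProduct.map g₁ g₂) (bc A Algebra.TensorProduct.includeRight y) =
        bc A Algebra.TensorProduct.includeRight (bc A g₂ y) := by
      intro y
      rw [bc_bc, bc_bc]
      congr 2
      ext s
      simp
    simpa [γ] using h (f₂ x)

section Idx

include 𝓡 in
omit [IsDomain P] [IsIntegrallyClosed P] [IsAlgClosed Ω] [FaithfulSMul P Ω] [Algebra.IsAlgebraic P Ω] in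
theorem Idx.directed (B₀ R : Subalgebra P Ω) : IsDirectedOrder (Idx B₀ R) :=
  ⟨fun B B' => ⟨⟨B.1 ⊔ B'.1, 𝓡.etale_sup _ _ B.2.1 B'.2.1, B.2.2.1.trans le_sup_left, sup_le B.2.2.2 B'.2.2.2⟩,
    (le_sup_left : B.1 ≤ B.1 ⊔ B'.1), (le_sup_right : B'.1 ≤ B.1 ⊔ B'.1)⟩⟩

end Idx

include hA in
/-- Homomorphisms from an étale algebra to `A ⊗ R` come from an étale subalgebra. -/
theorem exists_factor_one {R : Subalgebra P Ω} (hR : R ∈ 𝓡.carrier) {E : Type u} [CommRing E] [Algebra A E]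
    [Algebra.Etale A E] (α : E →ₐ[A] A ⊗[P] R) :
    ∃ (B : Subalgebra P Ω) (_ : Algebra.Etale P B) (hB : B ≤ R) (φ : E →ₐ[A] A ⊗[P] B),
      (bc A (Subalgebra.inclusion hB)).comp φ = α := by
  obtain ⟨B₀, h1, h2, -⟩ := 𝓡.exists_etale R hR 0 R.zero_mem
  have hd : IsDirectedOrder (Idx B₀ R) := Idx.directed 𝓡 B₀ R
  have hne : Nonempty (Idx B₀ R) := ⟨⟨B₀, h1, le_rfl, h2⟩⟩
  have hsurj : ∀ x : R, ∃ i : Idx B₀ R, ∃ y : i.1, Subalgebra.inclusion i.2.2.2 y = x := by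
    intro x
    obtain ⟨B, h3, h4, h5⟩ := 𝓡.exists_etale R hR x x.2
    exact ⟨⟨B₀ ⊔ B, 𝓡.etale_sup _ _ h1 h3, le_sup_left, sup_le h2 h4⟩, ⟨x, (le_sup_right : B ≤ B₀ ⊔ B) h5⟩, rfl⟩
  obtain ⟨B, σ, hσ1, hσ2⟩ := exists_factor_bc (fun B : Idx B₀ R => B.1) (fun B => Subalgebra.inclusion B.2.2.2)
    (fun i j h => Subalgebra.inclusion (show i.1 ≤ j.1 from h)) (fun _ _ _ _ => rfl) hsurj
    (fun B => inclusion_injective B.2.2.2) hA (fun _ _ _ _ _ _ => rfl) (E := A) (D := E) (α : E →+* A ⊗[P] R)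
    (fun B => algebraMap A (A ⊗[P] B.1))
    (fun i j h x => (bc A (Subalgebra.inclusion (show i.1 ≤ j.1 from h))).commutes x)
    (fun i x => (α.commutes x).trans ((bc A (Subalgebra.inclusion i.2.2.2)).commutes x).symm)
  let φ : E →ₐ[A] A ⊗[P] B.1 := { toRingHom := σ, commutes' := hσ1 }
  exact ⟨B.1, B.2.1, B.2.2.2, φ, AlgHom.ext hσ2⟩

include 𝓡 in
/-- Sections over quotients of `R₁ ⊗ R₂`. -/
theorem exists_section' {R₁ R₂ : Subalgebra P Ω} (h₁ : R₁ ∈ 𝓡.carrier) (h₂ : R₂ ∈ 𝓡.carrier) {E D C : Type u} [CommRing E]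
    [CommRing D] [Algebra E D] [Algebra.Etale E D]
    (hsurj : Function.Surjective (PrimeSpectrum.comap (algebraMap E D))) [CommRing C]
    (π : (R₁ ⊗[P] R₂) →+* C) (hπ : Function.Surjective π) (g : E →+* C) :
    ∃ σ : D →+* C, ∀ x, σ (algebraMap E D x) = g x := by
  let _ : Algebra E C := g.toAlgebra
  obtain ⟨σ⟩ := exists_section (E := E) (D := D) (C := C) hsurj (fun s hs => by
    have hs' : (s.comap π).IsPrime := Ideal.IsPrime.comap _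
    have h3 := exists_idem_SH 𝓡 h₁ h₂ (s.comap π)
    have hle : Ideal.span {e : R₁ ⊗[P] R₂ | IsIdempotentElem e ∧ e ∈ s.comap π} ≤
        (Ideal.span {e : C | IsIdempotentElem e ∧ e ∈ s}).comap π := by
      rw [Ideal.span_le]
      rintro e ⟨he, hes⟩
      exact Ideal.subset_span ⟨he.map π, hes⟩
    have hnt : Nontrivial (C ⧸ Ideal.span {e : C | IsIdempotentElem e ∧ e ∈ s}) := by
      refine Ideal.Quotient.nontrivial_iff.2 (fun h => hs.ne_top (top_le_iff.1 ?_))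
      rw [← h]
      exact Ideal.span_le.2 (fun e he => he.2)
    refine SH_of_surjective h3 (Ideal.quotientMap _ π hle) (fun y => ?_)
    obtain ⟨y, rfl⟩ := Ideal.Quotient.mk_surjective y
    obtain ⟨x, rfl⟩ := hπ y
    exact ⟨Ideal.Quotient.mk _ x, rfl⟩)
  exact ⟨σ, fun x => σ.commutes x⟩

/-- Pairs of étale subalgebras. -/
abbrev T2 {B₁ B₂ R₁ R₂ : Subalgebra P Ω} (i : Idx B₁ R₁ × Idx B₂ R₂) : Type u := i.1.1 ⊗[P] i.2.1

/-- The map to the union. -/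
noncomputable def c2 {B₁ B₂ R₁ R₂ : Subalgebra P Ω} (i : Idx B₁ R₁ × Idx B₂ R₂) : T2 i →ₐ[P] (R₁ ⊗[P] R₂) :=
  incl i.1.2.2.2 i.2.2.2.2

/-- The map from the bottom. -/
noncomputable def b2 {B₁ B₂ R₁ R₂ : Subalgebra P Ω} (i : Idx B₁ R₁ × Idx B₂ R₂) : (B₁ ⊗[P] B₂) →ₐ[P] T2 i :=
  incl i.1.2.2.1 i.2.2.2.1

/-- The transition maps. -/
noncomputable def t2 {B₁ B₂ R₁ R₂ : Subalgebra P Ω} (i j : Idx B₁ R₁ × Idx B₂ R₂) (h : i ≤ j) : T2 i →ₐ[P] T2 j :=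
  incl (Prod.le_def.1 h).1 (Prod.le_def.1 h).2

theorem c2_t2 {B₁ B₂ R₁ R₂ : Subalgebra P Ω} (i j : Idx B₁ R₁ × Idx B₂ R₂) (h : i ≤ j) (x : T2 i) :
    c2 j (t2 i j h x) = c2 i x := incl_incl _ _ _ _ x

theorem t2_t2 {B₁ B₂ R₁ R₂ : Subalgebra P Ω} (i j k : Idx B₁ R₁ × Idx B₂ R₂) (h : i ≤ j) (h' : j ≤ k) (x : T2 i) :
    t2 j k h' (t2 i j h x) = t2 i k (h.trans h') x := incl_incl _ _ _ _ x

theorem t2_b2 {B₁ B₂ R₁ R₂ : Subalgebra P Ω} (i j : Idx B₁ R₁ × Idx B₂ R₂) (h : i ≤ j) (x : B₁ ⊗[P] B₂) :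
    t2 i j h (b2 i x) = b2 j x := incl_incl _ _ _ _ x

theorem c2_b2 {B₁ B₂ R₁ R₂ : Subalgebra P Ω} (hBR₁ : B₁ ≤ R₁) (hBR₂ : B₂ ≤ R₂) (i : Idx B₁ R₁ × Idx B₂ R₂)
    (x : B₁ ⊗[P] B₂) : c2 i (b2 i x) = incl hBR₁ hBR₂ x := incl_incl _ _ _ _ x

include 𝓡 hA in
/-- Homomorphisms from an étale algebra over `E₁ ⊗ E₂` to `A ⊗ (R₁ ⊗ R₂)` come from étale subalgebras. -/
theorem exists_factor_two {R₁ R₂ B₁ B₂ : Subalgebra P Ω} (h₁ : R₁ ∈ 𝓡.carrier) (h₂ : R₂ ∈ 𝓡.carrier)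
    (hB₁ : Algebra.Etale P B₁) (hB₂ : Algebra.Etale P B₂) (hBR₁ : B₁ ≤ R₁) (hBR₂ : B₂ ≤ R₂) {E D : Type u} [CommRing E]
    [CommRing D] [Algebra E D] [Algebra.Etale E D] (g : E →+* (A ⊗[P] (B₁ ⊗[P] B₂)))
    (σ : D →+* A ⊗[P] (R₁ ⊗[P] R₂)) (hσ : ∀ x, σ (algebraMap E D x) = bc A (incl hBR₁ hBR₂) (g x)) :
    ∃ (C₁ C₂ : Subalgebra P Ω) (_ : Algebra.Etale P C₁) (_ : Algebra.Etale P C₂) (hBC₁ : B₁ ≤ C₁) (hBC₂ : B₂ ≤ C₂)
      (_ : C₁ ≤ R₁) (_ : C₂ ≤ R₂) (τ : D →+* (A ⊗[P] (C₁ ⊗[P] C₂))),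
      ∀ x, τ (algebraMap E D x) = bc A (incl hBC₁ hBC₂) (g x) := by
  have hd₁ : IsDirectedOrder (Idx B₁ R₁) := Idx.directed 𝓡 B₁ R₁
  have hd₂ : IsDirectedOrder (Idx B₂ R₂) := Idx.directed 𝓡 B₂ R₂
  have hd : IsDirectedOrder (Idx B₁ R₁ × Idx B₂ R₂) := ⟨fun a b => by
    obtain ⟨x, hx1, hx2⟩ := exists_ge_ge a.1 b.1
    obtain ⟨y, hy1, hy2⟩ := exists_ge_ge a.2 b.2
    exact ⟨(x, y), ⟨hx1, hy1⟩, ⟨hx2, hy2⟩⟩⟩
  have hne : Nonempty (Idx B₁ R₁ × Idx B₂ R₂) := ⟨(⟨B₁, hB₁, le_rfl, hBR₁⟩, ⟨B₂, hB₂, le_rfl, hBR₂⟩)⟩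
  have hflat₁ := flat_of_mem 𝓡 h₁
  have hsurj : ∀ x : R₁ ⊗[P] R₂, ∃ i : Idx B₁ R₁ × Idx B₂ R₂, ∃ y : T2 i, c2 i y = x := by
    intro x
    obtain ⟨C₁, C₂, hC₁, hC₂, hCR₁, hCR₂, y, rfl⟩ := exists_tensor 𝓡 h₁ h₂ x
    refine ⟨(⟨B₁ ⊔ C₁, 𝓡.etale_sup _ _ hB₁ hC₁, le_sup_left, sup_le hBR₁ hCR₁⟩,
      ⟨B₂ ⊔ C₂, 𝓡.etale_sup _ _ hB₂ hC₂, le_sup_left, sup_le hBR₂ hCR₂⟩),
      incl (le_sup_right : C₁ ≤ B₁ ⊔ C₁) (le_sup_right : C₂ ≤ B₂ ⊔ C₂) y, ?_⟩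
    exact incl_incl _ _ _ _ _
  have hinj : ∀ i : Idx B₁ R₁ × Idx B₂ R₂, Function.Injective (c2 i) := fun i => by
    have := i.2.2.1
    exact incl_injective _ _
  obtain ⟨B, τ, hτ1, -⟩ := exists_factor_bc' (T := R₁ ⊗[P] R₂) (fun i : Idx B₁ R₁ × Idx B₂ R₂ => T2 i) c2 t2 c2_t2
    hsurj hinj hA t2_t2 (E := E) (D := D) (S := B₁ ⊗[P] B₂) b2 t2_b2 (incl hBR₁ hBR₂) (c2_b2 hBR₁ hBR₂) g σ hσ
  exact ⟨B.1.1, B.2.1, B.1.2.1, B.2.2.1, B.1.2.2.1, B.2.2.2.1, B.1.2.2.2, B.2.2.2.2, τ, hτ1⟩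

/-- The final homomorphism. -/
theorem finish {P A E₁ E₂ D S₁ S₂ T₁ T₂ : Type u} [CommRing P] [CommRing A] [Algebra P A] [CommRing E₁] [CommRing E₂]
    [Algebra A E₁] [Algebra A E₂] [CommRing D] [Algebra (E₁ ⊗[A] E₂) D] [CommRing S₁] [CommRing S₂] [Algebra P S₁]
    [Algebra P S₂] [CommRing T₁] [CommRing T₂] [Algebra P T₁] [Algebra P T₂]
    (φ₁ : E₁ →ₐ[A] A ⊗[P] S₁) (φ₂ : E₂ →ₐ[A] A ⊗[P] S₂) (i₁ : S₁ →ₐ[P] T₁) (i₂ : S₂ →ₐ[P] T₂)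
    (τ : D →+* A ⊗[P] (T₁ ⊗[P] T₂))
    (hτ : ∀ x, τ (algebraMap (E₁ ⊗[A] E₂) D x) = bc A (Algebra.TensorProduct.map i₁ i₂) (γ φ₁ φ₂ x)) :
    ∃ ψ : D →+* (A ⊗[P] T₁) ⊗[A] (A ⊗[P] T₂), ψ.comp (algebraMap (E₁ ⊗[A] E₂) D) =
      (Algebra.TensorProduct.map ((bc A i₁).comp φ₁) ((bc A i₂).comp φ₂) :
        E₁ ⊗[A] E₂ →+* (A ⊗[P] T₁) ⊗[A] (A ⊗[P] T₂)) := by
  obtain ⟨β, hβ₁, hβ₂⟩ := exists_β (P := P) (A := A) (S₁ := T₁) (S₂ := T₂)
    (X := (A ⊗[P] T₁) ⊗[A] (A ⊗[P] T₂)) Algebra.TensorProduct.includeLeft Algebra.TensorProduct.includeRight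
  have key : (β.comp ((bc A (Algebra.TensorProduct.map i₁ i₂)).comp (γ φ₁ φ₂))) = Algebra.TensorProduct.map
      ((bc A i₁).comp φ₁) ((bc A i₂).comp φ₂) := by
    rw [bc_comp_γ]
    apply Algebra.TensorProduct.ext
    · ext x
      have := DFunLike.congr_fun hβ₁ (((bc A i₁).comp φ₁) x)
      simpa [γ] using this
    · ext x
      have := DFunLike.congr_fun hβ₂ (((bc A i₂).comp φ₂) x)
      simpa [γ] using this
  refine ⟨(β : _ →+* _).comp τ, RingHom.ext (fun x => ?_)⟩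
  rw [RingHom.comp_apply, RingHom.comp_apply, hτ]
  exact DFunLike.congr_fun key x

theorem exists_prime_bc {P A E S T R : Type u} [CommRing P] [CommRing A] [Algebra P A] [CommRing E] [Algebra A E]
    [CommRing S] [CommRing T] [CommRing R] [Algebra P S] [Algebra P T] [Algebra P R] (φ : E →ₐ[A] A ⊗[P] S)
    (i : S →ₐ[P] T) (j : T →ₐ[P] R) (k : S →ₐ[P] R) (hk : j.comp i = k) (α : E →ₐ[A] A ⊗[P] R)
    (hα : (bc A k).comp φ = α) (m : Ideal (A ⊗[P] R)) [m.IsPrime] (p : Ideal E) (hm : m.comap α = p) :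
    ∃ M : Ideal (A ⊗[P] T), M.IsPrime ∧ M.comap ((bc A i).comp φ) = p := by
  refine ⟨m.comap (bc A j), Ideal.IsPrime.comap _, ?_⟩
  rw [← hm, ← hα, ← hk]
  ext x
  simp only [Ideal.mem_comap, AlgHom.comp_apply]
  rw [bc_bc]

set_option maxHeartbeats 1000000 in
/-- **Étale coverings of a product of two pointed étale `A`-algebras are refined by products.** -/
theorem al2R_of_fam (P Ω : Type u) [CommRing P] [IsDomain P] [IsIntegrallyClosed P] [Field Ω] [IsAlgClosed Ω]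
    [Algebra P Ω] [FaithfulSMul P Ω] [Algebra.IsAlgebraic P Ω] (𝓡 : Fam P Ω)
    (A : Type u) [CommRing A] [Algebra P A] (hA : Function.Surjective (algebraMap P A)) : AL2R A := by
  intro E₁ E₂ _ _ _ _ _ _ p₁ p₂ _ _ D _ _ _ hsurj
  obtain ⟨R₁, h₁, -, hl₁, α₁, hα₁⟩ := exists_point 𝓡 hA p₁
  obtain ⟨R₂, h₂, -, hl₂, α₂, hα₂⟩ := exists_point 𝓡 hA p₂
  obtain ⟨B₁, hB₁, hBR₁, φ₁, hφ₁⟩ := exists_factor_one 𝓡 hA h₁ α₁
  obtain ⟨B₂, hB₂, hBR₂, φ₂, hφ₂⟩ := exists_factor_one 𝓡 hA h₂ α₂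
  have hπ : Function.Surjective
      (Algebra.TensorProduct.includeRight : (R₁ ⊗[P] R₂) →ₐ[P] A ⊗[P] (R₁ ⊗[P] R₂)).toRingHom := exists_one_tmul hA
  obtain ⟨σ, hσ⟩ := exists_section' 𝓡 h₁ h₂ hsurj
    (Algebra.TensorProduct.includeRight : (R₁ ⊗[P] R₂) →ₐ[P] A ⊗[P] (R₁ ⊗[P] R₂)).toRingHom hπ
    ((bc A (incl hBR₁ hBR₂)).comp (γ φ₁ φ₂)).toRingHom
  obtain ⟨C₁, C₂, hC₁, hC₂, hBC₁, hBC₂, hCR₁, hCR₂, τ, hτ⟩ := exists_factor_two 𝓡 hA h₁ h₂ hB₁ hB₂ hBR₁ hBR₂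
    (γ φ₁ φ₂).toRingHom σ hσ
  have hP₁ := exists_prime_bc φ₁ (Subalgebra.inclusion hBC₁) (Subalgebra.inclusion hCR₁) (Subalgebra.inclusion hBR₁)
    rfl α₁ hφ₁ (IsLocalRing.maximalIdeal (A ⊗[P] R₁)) p₁ hα₁
  have hP₂ := exists_prime_bc φ₂ (Subalgebra.inclusion hBC₂) (Subalgebra.inclusion hCR₂) (Subalgebra.inclusion hBR₂)
    rfl α₂ hφ₂ (IsLocalRing.maximalIdeal (A ⊗[P] R₂)) p₂ hα₂
  have hψ := finish φ₁ φ₂ (Subalgebra.inclusion hBC₁) (Subalgebra.inclusion hBC₂) τ hτ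
  have e₁ : Algebra.Etale A (A ⊗[P] C₁) := inferInstance
  have e₂ : Algebra.Etale A (A ⊗[P] C₂) := inferInstance
  exact ⟨A ⊗[P] C₁, A ⊗[P] C₂, inferInstance, inferInstance, inferInstance, inferInstance, e₁, e₂,
    (bc A (Subalgebra.inclusion hBC₁)).comp φ₁, (bc A (Subalgebra.inclusion hBC₂)).comp φ₂, hP₁, hP₂, hψ⟩

end K357.JoinMain
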