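import Groth.Agent.EtCore.K357.JoinT
import Groth.Agent.EtCore.K357.JoinSec
import Mathlib.RingTheory.Ideal.Quotient.Operations
import Mathlib.LinearAlgebra.TensorProduct.RightExactness

/-!
# Base change along a surjection and filtered colimits

For `P → A` surjective: `bc A f : A ⊗[P] S →ₐ[A] A ⊗[P] S'`, its kernel, and the behaviour of directed unions.
-/

set_option autoImplicit false
universe u v
open scoped TensorProduct

namespace K357.JoinBC

open K301.JoinDefs K357.JoinT K357.JoinSec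

section

variable {P : Type u} [CommRing P] (A : Type u) [CommRing A] [Algebra P A]
  {S S' S'' : Type u} [CommRing S] [CommRing S'] [CommRing S''] [Algebra P S] [Algebra P S'] [Algebra P S'']

/-- Base change of algebra homomorphisms. -/
noncomputable def bc (f : S →ₐ[P] S') : (A ⊗[P] S) →ₐ[A] (A ⊗[P] S') :=
  Algebra.TensorProduct.map (AlgHom.id A A) f

@[simp] theorem bc_tmul (f : S →ₐ[P] S') (a : A) (s : S) : bc A f (a ⊗ₜ[P] s) = a ⊗ₜ[P] f s := rfl

theorem bc_bc (f : S →ₐ[P] S') (g : S' →ₐ[P] S'') (x : A ⊗[P] S) : bc A g (bc A f x) = bc A (g.comp f) x := by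
  induction x with
  | zero => simp
  | tmul a s => rfl
  | add x y hx hy => rw [map_add, map_add, map_add, hx, hy]

theorem bc_comp (f : S →ₐ[P] S') (g : S' →ₐ[P] S'') : (bc A g).comp (bc A f) = bc A (g.comp f) :=
  AlgHom.ext (bc_bc A f g)

variable {A}

/-- If `P → A` is surjective, so is `S → A ⊗ S`. -/
theorem exists_one_tmul (hA : Function.Surjective (algebraMap P A)) (x : A ⊗[P] S) :
    ∃ s : S, (1 : A) ⊗ₜ[P] s = x := by
  induction x with
  | zero => exact ⟨0, TensorProduct.tmul_zero _ _⟩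
  | tmul a s =>
    obtain ⟨p, rfl⟩ := hA a
    exact ⟨p • s, by rw [TensorProduct.tmul_smul, TensorProduct.smul_tmul', Algebra.algebraMap_eq_smul_one]⟩
  | add x y hx hy =>
    obtain ⟨s, rfl⟩ := hx
    obtain ⟨t, rfl⟩ := hy
    exact ⟨s + t, TensorProduct.tmul_add _ _ _⟩

/-- The kernel of `S → A ⊗ S`. -/
theorem mem_map_of_one_tmul (hA : Function.Surjective (algebraMap P A)) {s : S}
    (hs : (1 : A) ⊗ₜ[P] s = 0) : s ∈ (RingHom.ker (algebraMap P A)).map (algebraMap P S) := by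
  let J := (RingHom.ker (algebraMap P A)).map (algebraMap P S)
  have hker : RingHom.ker (algebraMap P A) ≤ RingHom.ker (algebraMap P (S ⧸ J)) := by
    intro p hp
    rw [RingHom.mem_ker]
    change Ideal.Quotient.mk J (algebraMap P S p) = 0
    exact Ideal.Quotient.eq_zero_iff_mem.2 (Ideal.mem_map_of_mem _ hp)
  let g : A →+* S ⧸ J := RingHom.liftOfSurjective (algebraMap P A) hA ⟨algebraMap P (S ⧸ J), hker⟩
  have hg : ∀ p, g (algebraMap P A p) = algebraMap P (S ⧸ J) p :=
    fun p => RingHom.liftOfRightInverse_comp_apply _ _ _ _ _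
  let g' : A →ₐ[P] S ⧸ J := { toRingHom := g, commutes' := hg }
  have h := congrArg (Algebra.TensorProduct.productMap g' (Ideal.Quotient.mkₐ P J)) hs
  rw [Algebra.TensorProduct.productMap_apply_tmul, map_one, one_mul, map_zero] at h
  exact Ideal.Quotient.eq_zero_iff_mem.1 h

/-- Base change of a strictly henselian ring along a surjection. -/
theorem SH_bc (hA : Function.Surjective (algebraMap P A)) (hSH : SH S)
    [Nontrivial (A ⊗[P] S)] : SH (A ⊗[P] S) :=
  SH_of_surjective hSH (Algebra.TensorProduct.includeRight : S →ₐ[P] A ⊗[P] S).toRingHom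
    (exists_one_tmul hA)

end

section Dir

variable {P : Type u} [CommRing P] {A : Type u} [CommRing A] [Algebra P A] {T : Type u} [CommRing T] [Algebra P T]
  {ι : Type v} [Preorder ι] [IsDirectedOrder ι] [Nonempty ι] (T' : ι → Type u) [∀ i, CommRing (T' i)]
  [∀ i, Algebra P (T' i)] (c : ∀ i, T' i →ₐ[P] T) (t : ∀ i j, i ≤ j → T' i →ₐ[P] T' j)
  (hc : ∀ i j h x, c j (t i j h x) = c i x)
  (hsurj : ∀ x, ∃ i, ∃ y : T' i, c i y = x) (hinj : ∀ i, Function.Injective (c i))

include hsurj in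
omit [Preorder ι] [IsDirectedOrder ι] [Nonempty ι] in
theorem bc_surj (hA : Function.Surjective (algebraMap P A)) (x : A ⊗[P] T) :
    ∃ i, ∃ y : A ⊗[P] T' i, bc A (c i) y = x := by
  obtain ⟨s, rfl⟩ := exists_one_tmul hA x
  obtain ⟨i, y, rfl⟩ := hsurj s
  exact ⟨i, 1 ⊗ₜ[P] y, rfl⟩

include hsurj hinj hc in
theorem bc_inj (hA : Function.Surjective (algebraMap P A)) (i : ι) (x : A ⊗[P] T' i)
    (hx : bc A (c i) x = 0) : ∃ j, ∃ h : i ≤ j, bc A (t i j h) x = 0 := by
  obtain ⟨s, rfl⟩ := exists_one_tmul hA x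
  rw [bc_tmul] at hx
  have h1 := mem_map_of_one_tmul hA hx
  have key : ∀ z ∈ (RingHom.ker (algebraMap P A)).map (algebraMap P T),
      ∃ j, ∃ y : T' j, c j y = z ∧ (1 : A) ⊗ₜ[P] y = 0 := by
    intro z hz
    refine Submodule.span_induction ?_ ?_ ?_ ?_ hz
    · rintro _ ⟨p, hp, rfl⟩
      obtain ⟨j⟩ := ‹Nonempty ι›
      refine ⟨j, algebraMap P (T' j) p, (c j).commutes p, ?_⟩
      rw [Algebra.algebraMap_eq_smul_one, TensorProduct.tmul_smul, TensorProduct.smul_tmul',
        ← Algebra.algebraMap_eq_smul_one, (RingHom.mem_ker).1 hp, TensorProduct.zero_tmul]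
    · obtain ⟨j⟩ := ‹Nonempty ι›
      exact ⟨j, 0, map_zero _, TensorProduct.tmul_zero _ _⟩
    · rintro _ _ _ _ ⟨j, y, rfl, h⟩ ⟨k, y', rfl, h'⟩
      obtain ⟨l, hjl, hkl⟩ := exists_ge_ge j k
      refine ⟨l, t j l hjl y + t k l hkl y', by rw [map_add, hc, hc], ?_⟩
      rw [TensorProduct.tmul_add, ← bc_tmul, ← bc_tmul, h, h', map_zero, map_zero, add_zero]
    · rintro r _ _ ⟨j, y, rfl, h⟩
      obtain ⟨k, y', rfl⟩ := hsurj r
      obtain ⟨l, hjl, hkl⟩ := exists_ge_ge j k
      refine ⟨l, t k l hkl y' * t j l hjl y, by rw [map_mul, hc, hc, smul_eq_mul], ?_⟩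
      have : (1 : A) ⊗ₜ[P] (t k l hkl y' * t j l hjl y) =
          ((1 : A) ⊗ₜ[P] (t k l hkl y')) * bc A (t j l hjl) ((1 : A) ⊗ₜ[P] y) := by
        rw [bc_tmul, Algebra.TensorProduct.tmul_mul_tmul, one_mul]
      rw [this, h, map_zero, mul_zero]
  obtain ⟨j, y, hy, h2⟩ := key _ h1
  obtain ⟨k, hik, hjk⟩ := exists_ge_ge i j
  refine ⟨k, hik, ?_⟩
  have h3 : t i k hik s = t j k hjk y := hinj k (by rw [hc, hc, hy])
  rw [bc_tmul, h3, ← bc_tmul, h2, map_zero]

include hsurj hinj hc in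
/-- Homomorphisms from a finitely presented algebra to `A ⊗ T` factor. -/
theorem exists_factor_bc (hA : Function.Surjective (algebraMap P A))
    (ht : ∀ i j k (h : i ≤ j) (h' : j ≤ k) x, t j k h' (t i j h x) = t i k (h.trans h') x)
    {E D : Type u} [CommRing E] [CommRing D] [Algebra E D] [Algebra.FinitePresentation E D]
    (σ : D →+* A ⊗[P] T) (g : ∀ i, E →+* A ⊗[P] T' i) (hg : ∀ i j h x, bc A (t i j h) (g i x) = g j x)
    (hσ : ∀ i x, σ (algebraMap E D x) = bc A (c i) (g i x)) :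
    ∃ i, ∃ τ : D →+* A ⊗[P] T' i, (∀ x, τ (algebraMap E D x) = g i x) ∧ ∀ x, bc A (c i) (τ x) = σ x := by
  obtain ⟨i, τ, h1, h2⟩ := exists_factor (E := E) (D := D) (C := A ⊗[P] T) σ (ι := ι)
    (fun i => A ⊗[P] T' i) g (fun i => (bc A (c i) : _ →+* _)) (fun i j h => (bc A (t i j h) : _ →+* _)) hg
    (fun i j h x => by
      change bc A _ (bc A _ x) = bc A _ x
      rw [bc_bc]
      congr 2
      exact AlgHom.ext (hc i j h))
    (fun i j k h h' x => by
      change bc A _ (bc A _ x) = bc A _ x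
      rw [bc_bc]
      congr 2
      exact AlgHom.ext (ht i j k h h'))
    hσ (fun x => bc_surj T' c hsurj hA x) (fun i x hx => bc_inj T' c t hc hsurj hinj hA i x hx)
  exact ⟨i, τ, fun x => DFunLike.congr_fun h1 x, fun x => DFunLike.congr_fun h2 x⟩

include hsurj hinj hc in
theorem exists_factor_bc' (hA : Function.Surjective (algebraMap P A))
    (ht : ∀ i j k (h : i ≤ j) (h' : j ≤ k) x, t j k h' (t i j h x) = t i k (h.trans h') x)
    {E D S : Type u} [CommRing E] [CommRing D] [Algebra E D] [Algebra.FinitePresentation E D] [CommRing S] [Algebra P S]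
    (b : ∀ i, S →ₐ[P] T' i) (htb : ∀ i j h x, t i j h (b i x) = b j x) (f : S →ₐ[P] T) (hcb : ∀ i x, c i (b i x) = f x)
    (g : E →+* A ⊗[P] S) (σ : D →+* A ⊗[P] T) (hσ : ∀ x, σ (algebraMap E D x) = bc A f (g x)) :
    ∃ i, ∃ τ : D →+* A ⊗[P] T' i, (∀ x, τ (algebraMap E D x) = bc A (b i) (g x)) ∧
      ∀ x, bc A (c i) (τ x) = σ x := by
  refine exists_factor_bc T' c t hc hsurj hinj hA ht σ (fun i => (bc A (b i) : _ →+* _).comp g) ?_ ?_
  · intro i j h x
    change bc A _ (bc A _ (g x)) = bc A _ (g x)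
    rw [bc_bc]
    congr 2
    exact AlgHom.ext (htb i j h)
  · intro i x
    change _ = bc A _ (bc A _ (g x))
    rw [bc_bc, hσ]
    congr 2
    exact (AlgHom.ext (hcb i)).symm

end Dir

section Incl

variable {P Ω : Type u} [CommRing P] [Field Ω] [Algebra P Ω]

theorem inclusion_injective {B R : Subalgebra P Ω} (h : B ≤ R) : Function.Injective (Subalgebra.inclusion h) :=
  Subalgebra.inclusion_injective h

theorem incl_injective {B₁ B₂ R₁ R₂ : Subalgebra P Ω} (hBR₁ : B₁ ≤ R₁) (hBR₂ : B₂ ≤ R₂)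
    [Module.Flat P B₂] [Module.Flat P R₁] : Function.Injective (incl hBR₁ hBR₂) := by
  have h1 := Module.Flat.rTensor_preserves_injective_linearMap (M := B₂) (Subalgebra.inclusion hBR₁).toLinearMap
    (inclusion_injective hBR₁)
  have h2 := Module.Flat.lTensor_preserves_injective_linearMap (M := R₁) (Subalgebra.inclusion hBR₂).toLinearMap
    (inclusion_injective hBR₂)
  have h3 : ∀ x, incl hBR₁ hBR₂ x = (Subalgebra.inclusion hBR₂).toLinearMap.lTensor R₁
      ((Subalgebra.inclusion hBR₁).toLinearMap.rTensor B₂ x) := by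
    intro x
    induction x with
    | zero => simp
    | tmul a b => rfl
    | add x y hx hy => rw [map_add, map_add, map_add, hx, hy]
  intro x y hxy
  rw [h3, h3] at hxy
  exact h1 (h2 hxy)

end Incl

end K357.JoinBC
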