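import Groth.Agent.EtCore.K301.JoinDefs
import Groth.Agent.Etcore.NormalEtale
import Groth.Agent.Etbase.QuotHens
import Mathlib.RingTheory.Ideal.MinimalPrime.Localization
import Mathlib.RingTheory.Flat.EquationalCriterion
import Mathlib.FieldTheory.IsAlgClosed.Basic

/-!
# The components of `R₁ ⊗ R₂` for strict henselizations of a normal domain

`exists_idem_SH`: for a prime `s` of `R₁ ⊗[P] R₂`, the quotient by the ideal generated by the idempotents in `s` is
strictly henselian.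
-/

set_option autoImplicit false
set_option linter.unusedSectionVars false
universe u
open scoped TensorProduct

namespace K357.JoinT

open K301.JoinDefs

theorem isSepClosed_of_ringEquiv {k k' : Type*} [Field k] [Field k'] [IsSepClosed k]
    (φ : k ≃+* k') : IsSepClosed k' := by
  refine IsSepClosed.of_exists_root _ fun p hp hirr hsep => ?_
  have h1 : (p.map φ.symm.toRingHom).degree ≠ 0 := by
    rw [Polynomial.degree_map_eq_of_injective φ.symm.injective]
    exact (Polynomial.degree_pos_of_irreducible hirr).ne'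
  obtain ⟨x, hx⟩ := IsSepClosed.exists_root (p.map φ.symm.toRingHom) h1 (hsep.map)
  refine ⟨φ x, ?_⟩
  have h2 := congrArg φ hx.eq_zero
  rw [map_zero, Polynomial.eval_map, ← RingEquiv.coe_toRingHom, Polynomial.hom_eval₂] at h2
  have h3 : φ.toRingHom.comp φ.symm.toRingHom = RingHom.id k' := by
    ext y; exact φ.apply_symm_apply y
  rw [← h2]
  change _ = Polynomial.eval₂ (φ.toRingHom.comp φ.symm.toRingHom) _ p
  rw [h3]
  rfl

/-- A nonzero quotient of a strictly henselian ring is strictly henselian. -/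
theorem SH_of_surjective {R R' : Type u} [CommRing R] [CommRing R'] (h : SH R) (f : R →+* R')
    (hf : Function.Surjective f) [Nontrivial R'] : SH R' := by
  obtain ⟨h1, h2⟩ := h
  have hloc : IsLocalRing R' := IsLocalRing.of_surjective' f hf
  have h3 : HenselianLocalRing R' := Groth.Agent.Etbase.QuotHens.henselianLocalRing_of_surjective f hf
  have hl : IsLocalHom f := hf.isLocalHom
  refine ⟨h3, ?_⟩
  let e : IsLocalRing.ResidueField R ≃+* IsLocalRing.ResidueField R' :=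
    RingEquiv.ofBijective (IsLocalRing.ResidueField.map f)
      ⟨(IsLocalRing.ResidueField.map f).injective, fun y => by
        obtain ⟨y', rfl⟩ := IsLocalRing.residue_surjective y
        obtain ⟨x, rfl⟩ := hf y'
        exact ⟨IsLocalRing.residue R x, IsLocalRing.ResidueField.map_residue f x⟩⟩
  exact isSepClosed_of_ringEquiv e

theorem SH_quot {T L : Type u} [CommRing T] [CommRing L] (l : T →+* L) (hl : Function.Surjective l) (hSH : SH L)
    (J s : Ideal T) (hJs : J ≤ s) (hs : s ≠ ⊤) (hker : RingHom.ker l ≤ J) : SH (T ⧸ J) := by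
  have hker' : RingHom.ker l ≤ RingHom.ker (Ideal.Quotient.mk J) := by rwa [Ideal.mk_ker]
  let g := RingHom.liftOfSurjective l hl ⟨Ideal.Quotient.mk J, hker'⟩
  have : Nontrivial (T ⧸ J) := Ideal.Quotient.nontrivial_iff.2 (fun h => hs (top_le_iff.1 (h ▸ hJs)))
  refine SH_of_surjective hSH g (fun y => ?_)
  obtain ⟨y, rfl⟩ := Ideal.Quotient.mk_surjective y
  refine ⟨l y, ?_⟩
  exact RingHom.liftOfRightInverse_comp_apply _ _ _ _ _

/-- Algebraic domains embed in algebraically closed fields. -/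
theorem exists_lift {R T Ω : Type u} [CommRing R] [IsDomain R] [CommRing T] [Algebra R T] [Algebra.IsAlgebraic R T]
    [Field Ω] [IsAlgClosed Ω] [Algebra R Ω] [FaithfulSMul R Ω] (n : Ideal T) [n.IsPrime]
    (h : ∀ r : R, algebraMap R T r ∈ n → r = 0) : ∃ μ : T →ₐ[R] Ω, ∀ x, μ x = 0 ↔ x ∈ n := by
  have hinj1 : Function.Injective (algebraMap R (T ⧸ n)) := by
    rw [injective_iff_map_eq_zero]
    intro r hr
    exact h r (Ideal.Quotient.eq_zero_iff_mem.1 hr)
  have hf1 : FaithfulSMul R (T ⧸ n) := (faithfulSMul_iff_algebraMap_injective R (T ⧸ n)).2 hinj1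
  have halg : Algebra.IsAlgebraic R (T ⧸ n) := ⟨fun x => by
    obtain ⟨x, rfl⟩ := Ideal.Quotient.mk_surjective x
    exact (Algebra.IsAlgebraic.isAlgebraic (R := R) x).algHom (Ideal.Quotient.mkₐ R n)⟩
  let ℓ : (T ⧸ n) →ₐ[R] Ω := IsAlgClosed.lift
  have hℓ : Function.Injective ℓ := by
    rw [injective_iff_map_eq_zero]
    intro x hx
    by_contra hne
    obtain ⟨r, hr, y, hy⟩ := (halg.isAlgebraic x).exists_nonzero_dvd (mem_nonZeroDivisors_of_ne_zero hne)
    have h5 := congrArg ℓ hy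
    rw [map_mul, hx, zero_mul, ℓ.commutes] at h5
    exact hr ((FaithfulSMul.algebraMap_injective R Ω) (h5.trans (map_zero _).symm))
  refine ⟨ℓ.comp (Ideal.Quotient.mkₐ R n), fun x => ?_⟩
  rw [← Ideal.Quotient.eq_zero_iff_mem]
  exact map_eq_zero_iff ℓ hℓ

theorem mul_eq_zero_of_domain {P M : Type u} [CommRing P] [CommRing M] [Algebra P M] [Algebra.IsAlgebraic P M] {e : M}
    (he : IsIdempotentElem e) [IsDomain (Localization.Away e)] (n : Ideal M) [n.IsPrime] (hen : e ∉ n)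
    (h0 : ∀ r : P, algebraMap P M r ∈ n → r = 0) {x : M} (hx : x ∈ n) : e * x = 0 := by
  by_contra hne
  have hpow : ∀ k : ℕ, ∀ y : M, e ^ k * y = 0 → e * y = 0 := by
    intro k y hk
    rcases Nat.eq_zero_or_pos k with rfl | hk0
    · rw [pow_zero, one_mul] at hk
      rw [hk, mul_zero]
    · rwa [he.pow_eq hk0.ne'] at hk
  have hx' : algebraMap M (Localization.Away e) x ≠ 0 := by
    intro h
    obtain ⟨⟨_, k, rfl⟩, hk⟩ := (IsLocalization.map_eq_zero_iff (Submonoid.powers e) _ _).1 h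
    exact hne (hpow k x hk)
  have halg : IsAlgebraic P (algebraMap M (Localization.Away e) x) :=
    (Algebra.IsAlgebraic.isAlgebraic (R := P) x).algHom (IsScalarTower.toAlgHom P M (Localization.Away e))
  obtain ⟨r, hr, y, hy⟩ := halg.exists_nonzero_dvd (mem_nonZeroDivisors_of_ne_zero hx')
  obtain ⟨z, ⟨_, k, rfl⟩, rfl⟩ := IsLocalization.exists_mk'_eq (Submonoid.powers e) y
  have h1 : algebraMap M (Localization.Away e) (e ^ k * algebraMap P M r) =
      algebraMap M (Localization.Away e) (x * z) := by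
    rw [map_mul, map_mul, ← IsScalarTower.algebraMap_apply, hy, mul_left_comm]
    congr 1
    rw [mul_comm]
    exact IsLocalization.mk'_spec _ _ _
  obtain ⟨⟨_, l, rfl⟩, hl⟩ := (IsLocalization.eq_iff_exists (Submonoid.powers e) _).1 h1
  have hl' : e ^ l * (e ^ k * algebraMap P M r) = e ^ l * (x * z) := hl
  have h3 : e ^ l * (e ^ k * algebraMap P M r) ∈ n := by
    rw [hl']
    exact Ideal.mul_mem_left _ _ (Ideal.mul_mem_right _ _ hx)
  have h4 := (Ideal.IsPrime.mem_or_mem ‹n.IsPrime› h3).resolve_left (fun h => hen (Ideal.IsPrime.mem_of_pow_mem ‹_› _ h))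
  have h5 := (Ideal.IsPrime.mem_or_mem ‹n.IsPrime› h4).resolve_left (fun h => hen (Ideal.IsPrime.mem_of_pow_mem ‹_› _ h))
  exact hr (h0 r h5)

variable {P Ω : Type u} [CommRing P] [IsDomain P] [IsIntegrallyClosed P] [Field Ω] [IsAlgClosed Ω]
    [Algebra P Ω] [FaithfulSMul P Ω] [Algebra.IsAlgebraic P Ω] (𝓡 : Fam P Ω)

omit [IsDomain P] [IsIntegrallyClosed P] [IsAlgClosed Ω] [FaithfulSMul P Ω] [Algebra.IsAlgebraic P Ω] in
/-- Finite subsets of a member of the family lie in an étale subalgebra. -/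
theorem exists_etale_of_finset {R : Subalgebra P Ω} (hR : R ∈ 𝓡.carrier) (s : Finset Ω) (hs : ∀ x ∈ s, x ∈ R) :
    ∃ B : Subalgebra P Ω, Algebra.Etale P B ∧ B ≤ R ∧ ∀ x ∈ s, x ∈ B := by
  classical
  induction s using Finset.induction_on with
  | empty =>
    obtain ⟨B, h1, h2, -⟩ := 𝓡.exists_etale R hR 0 R.zero_mem
    exact ⟨B, h1, h2, by simp⟩
  | insert a s ha ih =>
    obtain ⟨B, h1, h2, h3⟩ := ih (fun x hx => hs x (Finset.mem_insert_of_mem hx))
    obtain ⟨B', h1', h2', h3'⟩ := 𝓡.exists_etale R hR a (hs a (Finset.mem_insert_self _ _))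
    refine ⟨B ⊔ B', 𝓡.etale_sup B B' h1 h1', sup_le h2 h2', fun x hx => ?_⟩
    rcases Finset.mem_insert.1 hx with rfl | hx
    · exact (le_sup_right : B' ≤ B ⊔ B') h3'
    · exact (le_sup_left : B ≤ B ⊔ B') (h3 x hx)

omit [IsDomain P] [IsIntegrallyClosed P] [IsAlgClosed Ω] [FaithfulSMul P Ω] [Algebra.IsAlgebraic P Ω] in
theorem flat_of_mem {R : Subalgebra P Ω} (hR : R ∈ 𝓡.carrier) : Module.Flat P R := by
  classical
  refine Module.Flat.of_forall_isTrivialRelation (fun {l f x} h => ?_)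
  obtain ⟨B, h1, h2, h3⟩ := exists_etale_of_finset 𝓡 hR (Finset.univ.image (fun i => (x i : Ω))) (by
    simp only [Finset.mem_image, Finset.mem_univ, true_and, forall_exists_index, forall_apply_eq_imp_iff]
    exact fun i => (x i).2)
  have hx : ∀ i, (x i : Ω) ∈ B := fun i => h3 _ (by simp)
  let y : Fin l → B := fun i => ⟨x i, hx i⟩
  have : Module.Flat P B := inferInstance
  have hy : ∑ i, f i • y i = 0 := by
    apply Subtype.ext
    have := congrArg (fun z : R => (z : Ω)) h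
    simpa using this
  obtain ⟨κ, a, z, h4, h5⟩ := Module.Flat.isTrivialRelation_of_sum_smul_eq_zero hy
  refine ⟨κ, a, fun j => Subalgebra.inclusion h2 (z j), fun i => ?_, h5⟩
  apply Subtype.ext
  have := congrArg (fun z : B => (z : Ω)) (h4 i)
  simpa using this

section Core

variable {R₁ R₂ : Subalgebra P Ω} (h₁ : R₁ ∈ 𝓡.carrier) (h₂ : R₂ ∈ 𝓡.carrier)

omit [IsIntegrallyClosed P] [IsAlgClosed Ω] in
include h₂ in
/-- Minimal primes of `R₁ ⊗ R₂` contract to zero in `R₁`. -/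
theorem eq_zero_of_left {n : Ideal (R₁ ⊗[P] R₂)} (hn : n ∈ minimalPrimes (R₁ ⊗[P] R₂)) (r : R₁)
    (hr : r ⊗ₜ[P] (1 : R₂) ∈ n) : r = 0 := by
  by_contra hne
  have := flat_of_mem 𝓡 h₂
  have h1 : r ⊗ₜ[P] (1 : R₂) ∈ nonZeroDivisors (R₁ ⊗[P] R₂) := by
    have h2 : Function.Injective (LinearMap.mulLeft P r) := fun x y h => mul_left_cancel₀ hne h
    have h3 := Module.Flat.rTensor_preserves_injective_linearMap (M := R₂) (LinearMap.mulLeft P r) h2
    have h4 : ∀ x : R₁ ⊗[P] R₂, (LinearMap.mulLeft P r).rTensor R₂ x = (r ⊗ₜ[P] (1 : R₂)) * x := by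
      intro x
      induction x with
      | zero => simp
      | tmul a b => simp
      | add x y hx hy => rw [map_add, hx, hy, mul_add]
    rw [mem_nonZeroDivisors_iff_left]
    intro x hx
    rw [← h4] at hx
    exact (map_eq_zero_iff _ h3).1 hx
  exact Set.disjoint_left.1 (Ideal.disjoint_nonZeroDivisors_of_mem_minimalPrimes hn) hr h1

omit [IsIntegrallyClosed P] [IsAlgClosed Ω] in
include h₁ in
/-- Minimal primes of `R₁ ⊗ R₂` contract to zero in `R₂`. -/
theorem eq_zero_of_right {n : Ideal (R₁ ⊗[P] R₂)} (hn : n ∈ minimalPrimes (R₁ ⊗[P] R₂)) (r : R₂)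
    (hr : (1 : R₁) ⊗ₜ[P] r ∈ n) : r = 0 := by
  by_contra hne
  have := flat_of_mem 𝓡 h₁
  have h1 : (1 : R₁) ⊗ₜ[P] r ∈ nonZeroDivisors (R₁ ⊗[P] R₂) := by
    have h2 : Function.Injective (LinearMap.mulLeft P r) := fun x y h => mul_left_cancel₀ hne h
    have h3 := Module.Flat.lTensor_preserves_injective_linearMap (M := R₁) (LinearMap.mulLeft P r) h2
    have h4 : ∀ x : R₁ ⊗[P] R₂, (LinearMap.mulLeft P r).lTensor R₁ x = ((1 : R₁) ⊗ₜ[P] r) * x := by
      intro x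
      induction x with
      | zero => simp
      | tmul a b => simp
      | add x y hx hy => rw [map_add, hx, hy, mul_add]
    rw [mem_nonZeroDivisors_iff_left]
    intro x hx
    rw [← h4] at hx
    exact (map_eq_zero_iff _ h3).1 hx
  exact Set.disjoint_left.1 (Ideal.disjoint_nonZeroDivisors_of_mem_minimalPrimes hn) hr h1

theorem injective_sub (R : Subalgebra P Ω) : Function.Injective (algebraMap P R) := by
  have h : Function.Injective (algebraMap P Ω) := FaithfulSMul.algebraMap_injective P Ω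
  intro x y hxy
  exact h (congrArg (fun z : R => (z : Ω)) hxy)

theorem isAlgebraic_sub (R : Subalgebra P Ω) : Algebra.IsAlgebraic R Ω :=
  Algebra.IsAlgebraic.extendScalars (R := P) (injective_sub R)

theorem isAlgebraic_sub' (R : Subalgebra P Ω) : Algebra.IsAlgebraic P R :=
  ⟨fun x => by
    obtain ⟨p, hp, h⟩ := Algebra.IsAlgebraic.isAlgebraic (R := P) (x : Ω)
    exact ⟨p, hp, Subtype.ext ((Polynomial.aeval_algHom_apply R.val x p).symm.trans h)⟩⟩

theorem isAlgebraic_tensor (R R' : Subalgebra P Ω) : Algebra.IsAlgebraic P (R ⊗[P] R') := by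
  have h1 := isAlgebraic_sub' R
  have h2 := isAlgebraic_sub' R'
  have : FaithfulSMul P R := (faithfulSMul_iff_algebraMap_injective P R).2 (injective_sub R)
  have h3 : Algebra.IsAlgebraic R (R ⊗[P] R') := inferInstance
  exact Algebra.IsAlgebraic.trans P R (R ⊗[P] R')

/-- Embeddings of a member into `Ω` extend to automorphisms. -/
theorem exists_aut (R : Subalgebra P Ω) (j : R →ₐ[P] Ω) (hj : Function.Injective j) :
    ∃ τ : Ω ≃ₐ[P] Ω, ∀ x : R, τ x = j x := by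
  have halg : Algebra.IsAlgebraic R Ω := isAlgebraic_sub R
  have halg' : Algebra.IsAlgebraic j.range Ω := isAlgebraic_sub j.range
  have hc : IsAlgClosure R Ω := ⟨inferInstance, inferInstance⟩
  have hc' : IsAlgClosure j.range Ω := ⟨inferInstance, inferInstance⟩
  let e : R ≃ₐ[P] j.range := AlgEquiv.ofInjective j hj
  let τ := IsAlgClosure.equivOfEquiv Ω Ω e.toRingEquiv
  have hτ : ∀ x : R, τ x = j x := fun x =>
    IsAlgClosure.equivOfEquiv_algebraMap Ω Ω e.toRingEquiv x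
  refine ⟨AlgEquiv.ofRingEquiv (f := τ) (fun p => ?_), fun x => hτ x⟩
  exact (hτ (algebraMap P R p)).trans (j.commutes p)

/-- The maps between tensor products of subalgebras. -/
noncomputable def incl {B₁ B₂ R₁ R₂ : Subalgebra P Ω} (hBR₁ : B₁ ≤ R₁) (hBR₂ : B₂ ≤ R₂) :
    (B₁ ⊗[P] B₂) →ₐ[P] (R₁ ⊗[P] R₂) :=
  Algebra.TensorProduct.map (Subalgebra.inclusion hBR₁) (Subalgebra.inclusion hBR₂)

@[simp] theorem incl_tmul {B₁ B₂ R₁ R₂ : Subalgebra P Ω} (hBR₁ : B₁ ≤ R₁) (hBR₂ : B₂ ≤ R₂) (x : B₁) (y : B₂) :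
    incl hBR₁ hBR₂ (x ⊗ₜ[P] y) = Subalgebra.inclusion hBR₁ x ⊗ₜ[P] Subalgebra.inclusion hBR₂ y := rfl

theorem incl_incl {B₁ B₂ C₁ C₂ R₁ R₂ : Subalgebra P Ω} (h1 : B₁ ≤ C₁) (h2 : B₂ ≤ C₂) (h3 : C₁ ≤ R₁) (h4 : C₂ ≤ R₂)
    (x : B₁ ⊗[P] B₂) : incl h3 h4 (incl h1 h2 x) = incl (h1.trans h3) (h2.trans h4) x := by
  have : (incl h3 h4).comp (incl h1 h2) = incl (h1.trans h3) (h2.trans h4) := by
    apply Algebra.TensorProduct.ext <;> ext x <;> simp
  exact DFunLike.congr_fun this x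

include h₁ h₂ in
/-- Every element of `R₁ ⊗ R₂` comes from étale subalgebras. -/
theorem exists_tensor (x : R₁ ⊗[P] R₂) : ∃ (B₁ B₂ : Subalgebra P Ω) (_ : Algebra.Etale P B₁) (_ : Algebra.Etale P B₂)
    (hBR₁ : B₁ ≤ R₁) (hBR₂ : B₂ ≤ R₂) (y : B₁ ⊗[P] B₂), incl hBR₁ hBR₂ y = x := by
  induction x with
  | zero =>
    obtain ⟨B, h1, h2, -⟩ := 𝓡.exists_etale R₁ h₁ 0 R₁.zero_mem
    obtain ⟨B', h1', h2', -⟩ := 𝓡.exists_etale R₂ h₂ 0 R₂.zero_mem
    exact ⟨B, B', h1, h1', h2, h2', 0, map_zero _⟩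
  | tmul a b =>
    obtain ⟨B, h1, h2, h3⟩ := 𝓡.exists_etale R₁ h₁ a a.2
    obtain ⟨B', h1', h2', h3'⟩ := 𝓡.exists_etale R₂ h₂ b b.2
    exact ⟨B, B', h1, h1', h2, h2', (⟨a, h3⟩ : B) ⊗ₜ[P] (⟨b, h3'⟩ : B'), rfl⟩
  | add x y hx hy =>
    obtain ⟨B₁, B₂, e1, e2, l1, l2, x', rfl⟩ := hx
    obtain ⟨C₁, C₂, f1, f2, m1, m2, y', rfl⟩ := hy
    refine ⟨B₁ ⊔ C₁, B₂ ⊔ C₂, 𝓡.etale_sup _ _ e1 f1, 𝓡.etale_sup _ _ e2 f2, sup_le l1 m1, sup_le l2 m2,
      incl (le_sup_left : B₁ ≤ B₁ ⊔ C₁) (le_sup_left : B₂ ≤ B₂ ⊔ C₂) x' +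
        incl (le_sup_right : C₁ ≤ B₁ ⊔ C₁) (le_sup_right : C₂ ≤ B₂ ⊔ C₂) y', ?_⟩
    rw [map_add, incl_incl, incl_incl]

include h₁ h₂ in
theorem exists_hom (n : Ideal (R₁ ⊗[P] R₂)) (hn : n ∈ minimalPrimes (R₁ ⊗[P] R₂)) :
    ∃ τ : Ω ≃ₐ[P] Ω, ∀ x : R₁ ⊗[P] R₂,
      Algebra.TensorProduct.productMap R₁.val ((τ : Ω →ₐ[P] Ω).comp R₂.val) x = 0 ↔ x ∈ n := by
  have hnp : n.IsPrime := hn.1.1
  have hf0 : FaithfulSMul P R₁ := (faithfulSMul_iff_algebraMap_injective P R₁).2 (injective_sub R₁)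
  have := isAlgebraic_sub' R₂
  have halgT' : Algebra.IsAlgebraic R₁ (R₁ ⊗[P] R₂) := inferInstance
  obtain ⟨ℓ, hℓ⟩ := exists_lift (R := R₁) (T := R₁ ⊗[P] R₂) (Ω := Ω) n (fun r hr => eq_zero_of_left 𝓡 h₂ hn r hr)
  let μ : (R₁ ⊗[P] R₂) →ₐ[P] Ω := ℓ.restrictScalars P
  have hμ : ∀ x, μ x = 0 ↔ x ∈ n := hℓ
  let j : R₂ →ₐ[P] Ω := μ.comp Algebra.TensorProduct.includeRight
  have hj : Function.Injective j := by
    rw [injective_iff_map_eq_zero]
    intro r hr
    exact eq_zero_of_right 𝓡 h₁ hn r ((hμ _).1 hr)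
  obtain ⟨τ, hτ⟩ := exists_aut R₂ j hj
  refine ⟨τ, fun x => ?_⟩
  rw [← hμ]
  have : Algebra.TensorProduct.productMap R₁.val ((τ : Ω →ₐ[P] Ω).comp R₂.val) = μ := by
    apply Algebra.TensorProduct.ext
    · ext r
      simp only [AlgHom.comp_apply, Algebra.TensorProduct.includeLeft_apply, Algebra.TensorProduct.productMap_apply_tmul,
        map_one, mul_one]
      exact (ℓ.commutes r).symm
    · ext r
      change Algebra.TensorProduct.productMap _ _ ((1 : R₁) ⊗ₜ[P] r) = μ ((1 : R₁) ⊗ₜ[P] r)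
      rw [Algebra.TensorProduct.productMap_apply_tmul, map_one, one_mul]
      exact hτ r
  rw [this]

/-- An element of the minimal prime `n ≤ s` is killed modulo the idempotents in `s`. -/
theorem mem_span_of_mem {B₁ B₂ : Subalgebra P Ω} [Algebra.Etale P B₁] [Algebra.Etale P B₂] {T : Type u} [CommRing T]
    [Algebra P T] (ι : (B₁ ⊗[P] B₂) →ₐ[P] T) (s n : Ideal T) [s.IsPrime] (hn : n ≤ s)
    [n.IsPrime] (h0 : ∀ r : P, algebraMap P T r ∈ n → r = 0) (x : B₁ ⊗[P] B₂) (hx : ι x ∈ n) :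
    ι x ∈ Ideal.span {e : T | IsIdempotentElem e ∧ e ∈ s} := by
  have het : Algebra.Etale P (B₁ ⊗[P] B₂) := Algebra.Etale.comp P B₁ (B₁ ⊗[P] B₂)
  obtain ⟨e, he, hes, hdom, -⟩ := Groth.Agent.Etcore.NormalEtale.exists_idempotent_notMem P (B₁ ⊗[P] B₂)
    (s.comap ι)
  have he' : IsIdempotentElem (1 - ι e) := by
    have : IsIdempotentElem (ι e) := he.map ι
    exact this.one_sub
  have hes' : 1 - ι e ∈ s := by
    have h1 : ι e * (1 - ι e) ∈ s := by
      have : ι e * (1 - ι e) = 0 := by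
        rw [mul_sub, mul_one, ← map_mul, he.eq, sub_self]
      rw [this]
      exact s.zero_mem
    exact (Ideal.IsPrime.mem_or_mem ‹s.IsPrime› h1).resolve_left hes
  have := isAlgebraic_tensor B₁ B₂
  have key : e * x = 0 := by
    refine mul_eq_zero_of_domain (P := P) he (n.comap ι) (fun h => hes (hn h)) (fun r hr => ?_) hx
    rw [Ideal.mem_comap, ι.commutes] at hr
    exact h0 r hr
  have h2 : ι x = (1 - ι e) * ι x := by
    rw [sub_mul, one_mul, ← map_mul, key, map_zero, sub_zero]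
  rw [h2]
  exact Ideal.mul_mem_right _ _ (Ideal.subset_span ⟨he', hes'⟩)

include h₁ h₂ in
/-- The quotient of `R₁ ⊗ R₂` by the idempotents in a prime is strictly henselian. -/
theorem exists_idem_SH (s : Ideal (R₁ ⊗[P] R₂)) [s.IsPrime] :
    SH ((R₁ ⊗[P] R₂) ⧸ Ideal.span {e : R₁ ⊗[P] R₂ | IsIdempotentElem e ∧ e ∈ s}) := by
  obtain ⟨n, hn, hns⟩ := Ideal.exists_minimalPrimes_le (bot_le : ⊥ ≤ s)
  have hnp : n.IsPrime := hn.1.1
  obtain ⟨τ, hτ⟩ := exists_hom 𝓡 h₁ h₂ n hn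
  let l := Algebra.TensorProduct.productMap R₁.val ((τ : Ω →ₐ[P] Ω).comp R₂.val)
  have hrange : l.range = R₁ ⊔ R₂.map (τ : Ω →ₐ[P] Ω) := by
    rw [Algebra.TensorProduct.productMap_range, Subalgebra.range_val, AlgHom.range_comp, Subalgebra.range_val]
  have hSH : SH l.range := by
    rw [hrange]
    exact 𝓡.sup_SH _ h₁ _ (𝓡.map_mem _ h₂ τ)
  have h0 : ∀ r : P, algebraMap P (R₁ ⊗[P] R₂) r ∈ n → r = 0 := fun r hr => by
    have h1 := eq_zero_of_left 𝓡 h₂ hn (algebraMap P R₁ r) hr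
    exact injective_sub R₁ (h1.trans (map_zero _).symm)
  have hle : ∀ x ∈ n, x ∈ Ideal.span {e : R₁ ⊗[P] R₂ | IsIdempotentElem e ∧ e ∈ s} := by
    intro x hx
    obtain ⟨B₁, B₂, hB₁, hB₂, hBR₁, hBR₂, y, rfl⟩ := exists_tensor 𝓡 h₁ h₂ x
    exact mem_span_of_mem _ s n hns h0 y hx
  have hne : Ideal.span {e : R₁ ⊗[P] R₂ | IsIdempotentElem e ∧ e ∈ s} ≤ s := Ideal.span_le.2 (fun e he => he.2)
  refine SH_quot (l.rangeRestrict : (R₁ ⊗[P] R₂) →+* l.range) l.rangeRestrict_surjective hSH _ s hne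
    (Ideal.IsPrime.ne_top ‹_›) (fun x hx => hle x ((hτ x).1 (congrArg (fun z : l.range => (z : Ω)) hx)))

end Core

end K357.JoinT
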